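import Cfsg.Agent.OmegaEight.Cover
import Cfsg.Prelude.Def_KGroupFacts

/-!
The exceptional multiplier of `PΩ⁺₈(2)`.
-/

set_option autoImplicit false
set_option linter.style.haveILetI false

namespace CfsgLib.OmegaEight

open Subgroup QuadraticMap CfsgLib.Forms CfsgLib.Quad CfsgLib.CoxRot

universe u

variable {F : Type u} [Field F]

theorem exists_chain {G : Type u} [Group G] {gb : Fin 8 → G}
    (hg : ∀ i j, InJ 7 6 i → InJ 7 6 j → CoxeterMatrix.E₈ i j = 3 → gb i * gb j * gb i = gb j * gb i * gb j)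
    {P : Type u} [Group P] (π : P →* G) (hc : π.ker ≤ center P) (hs : Function.Surjective π) :
    ∃ b0 : Fin 8 → P, (∀ j, InJ 7 6 j → π (b0 j) = gb j) ∧
      ∀ i j, InJ 7 6 i → InJ 7 6 j → CoxeterMatrix.E₈ i j = 3 → b0 i * b0 j * b0 i = b0 j * b0 i * b0 j := by
  have hg' : ∀ i j : Fin 8, i.1 < 6 → j.1 < 6 → CoxeterMatrix.E₈ i j = 3 →
      gb i * gb j * gb i = gb j * gb i * gb j := fun i j hi hj =>
    hg i j ⟨by rintro rfl; simp at hi, by rintro rfl; simp at hi⟩
      ⟨by rintro rfl; simp at hj, by rintro rfl; simp at hj⟩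
  obtain ⟨x5, e5⟩ := hs (gb 5)
  obtain ⟨x4, e4, b54⟩ := SpSixMult.exists_braid_lift hc hs (hg' 5 4 (by decide) (by decide) (by decide)) e5
  obtain ⟨x3, e3, b43⟩ := SpSixMult.exists_braid_lift hc hs (hg' 4 3 (by decide) (by decide) (by decide)) e4
  obtain ⟨x2, e2, b32⟩ := SpSixMult.exists_braid_lift hc hs (hg' 3 2 (by decide) (by decide) (by decide)) e3
  obtain ⟨x1, e1, b31⟩ := SpSixMult.exists_braid_lift hc hs (hg' 3 1 (by decide) (by decide) (by decide)) e3
  obtain ⟨x0, e0, b20⟩ := SpSixMult.exists_braid_lift hc hs (hg' 2 0 (by decide) (by decide) (by decide)) e2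
  refine ⟨![x0, x1, x2, x3, x4, x5, 1, 1], six_cases e0 e1 e2 e3 e4 e5, ?_⟩
  rintro i j ⟨hi7, hi6⟩ ⟨hj7, hj6⟩ h
  fin_cases i <;> fin_cases j <;> first
    | exact absurd rfl hi7 | exact absurd rfl hi6 | exact absurd rfl hj7 | exact absurd rfl hj6
    | exact absurd h (by decide)
    | exact b54 | exact b54.symm | exact b43 | exact b43.symm | exact b32 | exact b32.symm
    | exact b31 | exact b31.symm | exact b20 | exact b20.symm

variable [Fintype F]

theorem hasSchurMultiplier_pomega8 (h : Fintype.card F = 2) :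
    Cfsg.HasSchurMultiplier (Cfsg.POmega F (Cfsg.quadFormPlus 4 F)) (Multiplicative (ZMod 2 × ZMod 2)) := by
  classical
  have h2 := SpMult.cases_of_card_two h
  haveI : CharP F 2 := CharTwo.of_one_ne_zero_of_two_eq_zero one_ne_zero (SpMult.two_eq_zero h2)
  rw [← plusQ_coe]
  have hz := card_center_omega_one (plusQ_nondeg (F := F) 4) (by simp) (Or.inl (SpMult.two_eq_zero h2))
  have hbij : Function.Bijective (QuotientGroup.mk' (center (commutator (oGroup (plusQ (F := F) 4))))) :=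
    ⟨(MonoidHom.ker_eq_bot_iff _).1 (by rw [QuotientGroup.ker_mk', Subgroup.eq_bot_of_card_eq _ hz]),
      QuotientGroup.mk'_surjective _⟩
  let e : commutator (oGroup (plusQ (F := F) 4)) ≃* Cfsg.POmega F ⇑(plusQ (F := F) 4) :=
    (MulEquiv.ofBijective _ hbij).trans (pOmegaEquiv (plusQ (F := F) 4)).symm
  obtain ⟨C₀, _, _, τ₀, hs₀, hc₀, hk₀, hK, hcard, gx, gb, E, hgen⟩ := exists_cover (F := F) h2
  let el : ULift.{u} C₀ ≃* C₀ := MulEquiv.ulift
  let τ : ULift.{u} C₀ →* Cfsg.POmega F ⇑(plusQ (F := F) 4) :=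
    (e.toMonoidHom.comp τ₀).comp el.toMonoidHom
  have hmem : ∀ y, y ∈ τ.ker ↔ el y ∈ τ₀.ker := fun y => by
    show e (τ₀ (el y)) = 1 ↔ τ₀ (el y) = 1
    rw [← map_one e]
    exact e.injective.eq_iff
  have hperm : τ.ker = τ₀.ker.comap el.toMonoidHom := Subgroup.ext hmem
  have hst : Cfsg.IsStemExtension τ := by
    refine ⟨fun g => ?_, fun y hy => mem_center_iff.2 fun g => ?_, fun y hy => ?_⟩
    · obtain ⟨y, hy⟩ := hs₀ (e.symm g)
      refine ⟨el.symm y, ?_⟩
      show e (τ₀ (el (el.symm y))) = g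
      rw [MulEquiv.apply_symm_apply, hy, MulEquiv.apply_symm_apply]
    · exact el.injective (by
        rw [map_mul, map_mul]; exact mem_center_iff.1 (hc₀ ((hmem y).1 hy)) _)
    · obtain ⟨d, hd, he⟩ := (Schur.map_commutator_of_surjective
        el.toMonoidHom el.surjective).ge (hk₀ ((hmem y).1 hy))
      rwa [← el.injective (show el d = el y from he)]
  let eK : τ.ker ≃* τ₀.ker :=
    { toFun := fun y => ⟨el y.1, (hmem y.1).1 y.2⟩
      invFun := fun y => ⟨el.symm y.1, (hmem _).2 (by rw [MulEquiv.apply_symm_apply]; exact y.2)⟩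
      left_inv := fun y => Subtype.ext (el.symm_apply_apply y.1)
      right_inv := fun y => Subtype.ext (el.apply_symm_apply y.1)
      map_mul' := fun a b => Subtype.ext (map_mul el a.1 b.1) }
  haveI := hK
  obtain ⟨eA⟩ := IsKleinFour.nonempty_mulEquiv (G₁ := τ₀.ker) (G₂ := Multiplicative (ZMod 2 × ZMod 2))
  refine ⟨⟨_, inferInstance, inferInstance, τ, hst, ⟨eK.trans eA⟩⟩, fun Γ _ _ σ hσ => ?_⟩
  haveI : Finite CoxeterMatrix.E₈.Group := inferInstanceAs (Finite W)
  obtain ⟨f, hf⟩ := exists_hom_ker hσ.1 hσ.2.1 hσ.2.2 hst.1 hst.2.1 hst.2.2 shapeE connE (E.map e.toMonoidHom)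
    (by
      have h' := congrArg (Subgroup.map e.toMonoidHom) hgen
      rw [MonoidHom.map_closure, Subgroup.map_top_of_surjective _ e.surjective, Set.image_insert_eq,
        Set.image_image] at h'
      exact h')
    exists_ne_l
    (fun π hc hs => exists_chain (fun i j hi hj hm => (E.map e.toMonoidHom).three i j hi hj hm) π hc hs)
    (by rw [Nat.card_congr el.toEquiv]; exact hcard)
  exact ⟨f.comp (eK.trans eA).symm.toMonoidHom, hf.comp (eK.trans eA).symm.surjective⟩

end CfsgLib.OmegaEight
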